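import Groth.Agent.L21.Nodal.Gorenstein
import Groth.Agent.L21.Nodal.ClosedSub
import Groth.Agent.L21.Nodal.QuadNode
import Groth.Agent.L18.FiberStalk
import Groth.Agent.L18.CurveDimension
import Groth.Agent.L19.SmoothLocus
import Groth.Agent.L05.TameRoot.RootRing
import Groth.Agent.L03.GeomReduced
import Groth.Agent.L01.Regular
import Groth.Agent.L21.Nodal.EtaleLocal

/-! The local ring at the image of a component of a reduced fibre. -/

set_option autoImplicit false
set_option linter.style.haveILetI false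
set_option backward.isDefEq.respectTransparency.types false
set_option backward.isDefEq.respectTransparency false
set_option maxHeartbeats 1000000

universe u

open CategoryTheory CategoryTheory.Limits AlgebraicGeometry TopologicalSpace IsLocalRing

noncomputable section

namespace Groth.L05.NodalContr

open Groth.L21.Nodal

section Field

variable {k : Type u} [Field k] {Y : Scheme.{u}} [Y.Over (Spec (CommRingCat.of k))]

theorem formallySmooth_stalk (z : Y) (hz : ∃ U : Y.Opens, z ∈ U ∧ Smooth (U.ι ≫ (Y ↘ Spec (CommRingCat.of k))))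
    [LocallyOfFiniteType (Y ↘ Spec (CommRingCat.of k))] :
    (Curv2.stalkMap k Y z).FormallySmooth := by
  set f := Y ↘ Spec (CommRingCat.of k)
  have h := (Groth.L19.SmoothLocus.mem_iff_nhd f z).2 hz
  rw [Scheme.Hom.mem_smoothLocus] at h
  let q : PrimeSpectrum k := f z
  let S' := (Spec (CommRingCat.of k)).presheaf.stalk (f z)
  let θ : k →+* S' := ((Scheme.ΓSpecIso (CommRingCat.of k)).inv ≫
    (Spec (CommRingCat.of k)).presheaf.germ ⊤ (f z) trivial).hom
  have hθ : Function.Bijective θ := by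
    letI : Algebra k S' := StructureSheaf.stalkAlgebra k q
    haveI : IsLocalization q.asIdeal.primeCompl S' := StructureSheaf.IsLocalization.to_stalk k q
    let e := IsLocalization.atUnits k q.asIdeal.primeCompl (S := S')
      (fun s hs => isUnit_iff_ne_zero.mpr fun h0 => hs (h0 ▸ q.asIdeal.zero_mem))
    have he : ∀ a, θ a = e a := fun a => (e.commutes a).symm
    exact ⟨fun a a' h => e.injective (by rw [← he, ← he]; exact h), fun z => ⟨e.symm z, by rw [he, e.apply_symm_apply]⟩⟩
  have hcomp : Curv2.stalkMap k Y z = (f.stalkMap z).hom.comp θ := by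
    refine RingHom.ext fun c => ?_
    show Y.presheaf.germ ⊤ z trivial (f.appTop _) = f.stalkMap z ((Spec (CommRingCat.of k)).presheaf.germ ⊤ (f z) trivial _)
    exact (Scheme.Hom.germ_stalkMap_apply f ⊤ z trivial _).symm
  rw [hcomp]
  exact RingHom.FormallySmooth.stableUnderComposition _ _ (RingHom.FormallySmooth.of_bijective hθ) h

/-- A point below a smooth generic point has separable residue field. -/
theorem isSeparable_residueField {W : Scheme.{u}} [W.Over (Spec (CommRingCat.of k))]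
    [LocallyOfFiniteType (Y ↘ Spec (CommRingCat.of k))] [LocallyOfFiniteType (W ↘ Spec (CommRingCat.of k))]
    (φ : Y ⟶ W) (hφ : φ ≫ (W ↘ Spec (CommRingCat.of k)) = Y ↘ Spec (CommRingCat.of k)) (z : Y)
    (hK : IsField (Y.presheaf.stalk z)) (hw : IsClosed ({φ z} : Set W))
    (hz : ∃ U : Y.Opens, z ∈ U ∧ Smooth (U.ι ≫ (Y ↘ Spec (CommRingCat.of k)))) :
    letI := Curv2.resAlgebra k W (φ z)
    Algebra.IsSeparable k (W.residueField (φ z)) := by
  letI := Curv2.resAlgebra k W (φ z)
  letI := Curv2.stalkAlgebra k Y z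
  letI : Field (Y.presheaf.stalk z) := hK.toField
  haveI : Algebra.FormallySmooth k (Y.presheaf.stalk z) :=
    RingHom.formallySmooth_algebraMap.1 (formallySmooth_stalk z hz)
  haveI : Algebra.IsGeometricallyReduced k (Y.presheaf.stalk z) :=
    (Groth.L03.GeomReduced.formallySmooth_iff _ _).1 inferInstance
  let l : W.residueField (φ z) →+* Y.presheaf.stalk z :=
    Ideal.Quotient.lift (maximalIdeal (W.presheaf.stalk (φ z))) (φ.stalkMap z).hom fun a ha =>
      by_contra fun hne => ha (isUnit_of_map_unit (φ.stalkMap z).hom a (isUnit_iff_ne_zero.2 hne))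
  let la : W.residueField (φ z) →ₐ[k] Y.presheaf.stalk z :=
    { toRingHom := l
      commutes' := fun c => stalkMap_comp_stalkMap φ hφ z c }
  haveI : Algebra.IsGeometricallyReduced k (W.residueField (φ z)) :=
    Algebra.IsGeometricallyReduced.of_injective la la.toRingHom.injective
  haveI : Module.Finite k (W.residueField (φ z)) := finite_resMap _ hw
  exact Groth.L05.TameRoot.isSeparable_of_geomReduced _ _

end Field

section Rings

/-- A uniformiser of the base stays outside the square of the maximal ideal below a point where it generates. -/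
theorem notMem_sq {A B : Type u} [CommRing A] [IsLocalRing A] [CommRing B] [IsLocalRing B] [IsNoetherianRing B]
    (φ : A →+* B) [IsLocalHom φ] (t : A) (hne : φ t ≠ 0) (hm : maximalIdeal B = Ideal.span {φ t}) :
    t ∉ maximalIdeal A ^ 2 := fun ht => hne (by
  have h1 : φ t ∈ maximalIdeal B ^ 2 := by
    refine Ideal.pow_right_mono ?_ 2 (Ideal.map_pow φ (maximalIdeal A) 2 ▸ Ideal.mem_map_of_mem φ ht)
    exact Ideal.map_le_iff_le_comap.2 fun a ha => fun hu => ha (isUnit_of_map_unit φ a hu)
  have h2 : maximalIdeal B ≤ maximalIdeal B • maximalIdeal B := by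
    rw [smul_eq_mul, ← pow_two]
    exact hm.le.trans ((Ideal.span_singleton_le_iff_mem _).2 h1)
  have h3 := Submodule.eq_bot_of_le_smul_of_le_jacobson_bot (maximalIdeal B) (maximalIdeal B)
    (IsNoetherian.noetherian _) h2 (IsLocalRing.maximalIdeal_le_jacobson _)
  rw [h3] at hm
  exact Ideal.span_singleton_eq_bot.1 hm.symm)

theorem flat_of_ne_zero {D A : Type u} [CommRing D] [IsDomain D] [IsDiscreteValuationRing D] [CommRing A]
    [IsDomain A] (φ : D →+* A) (t : D) (ht : Irreducible t) (hne : φ t ≠ 0) : φ.Flat := by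
  have hinj : Function.Injective φ := by
    rw [injective_iff_map_eq_zero]
    intro a ha
    by_contra h0
    obtain ⟨n, w, rfl⟩ := IsDiscreteValuationRing.eq_unit_mul_pow_irreducible h0 ht
    rw [map_mul, map_pow] at ha
    exact pow_ne_zero n hne ((w.isUnit.map φ).mul_right_eq_zero.1 ha)
  letI := φ.toAlgebra
  haveI : FaithfulSMul D A := (faithfulSMul_iff_algebraMap_injective D A).2 hinj
  exact (inferInstance : Module.Flat D A)

end Rings

section Stalk

variable {R : Type u} [CommRing R] [IsDomain R] [IsDiscreteValuationRing R] {X X' : Scheme.{u}}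
  (b : X ⟶ X') (p' : X' ⟶ Spec (CommRingCat.of R))

theorem exists_uniformizer_stalk (s : Spec (CommRingCat.of R)) (hs : s = IsLocalRing.closedPoint R) :
    ∃ (_ : IsDomain ((Spec (CommRingCat.of R)).presheaf.stalk s))
      (_ : IsDiscreteValuationRing ((Spec (CommRingCat.of R)).presheaf.stalk s))
      (t : (Spec (CommRingCat.of R)).presheaf.stalk s), Irreducible t := by
  subst hs
  let q : PrimeSpectrum R := IsLocalRing.closedPoint R
  let D := (Spec (CommRingCat.of R)).presheaf.stalk (IsLocalRing.closedPoint R)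
  letI : Algebra R D := StructureSheaf.stalkAlgebra R q
  haveI : IsLocalization q.asIdeal.primeCompl D := StructureSheaf.IsLocalization.to_stalk R q
  let e : R ≃ₐ[R] D := IsLocalization.atUnits R q.asIdeal.primeCompl (fun s hs => not_not.1 hs)
  haveI hdom : IsDomain D := e.toRingEquiv.symm.toMulEquiv.isDomain R
  obtain ⟨t, ht⟩ := IsDiscreteValuationRing.exists_irreducible R
  exact ⟨hdom, IsDiscreteValuationRing.RingEquivClass.isDiscreteValuationRing e.toRingEquiv, e t,
    (MulEquiv.irreducible_iff e.toRingEquiv.toMulEquiv).2 ht⟩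

/-- The stalk of a fibre as a quotient. -/
theorem exists_stalk_quotient {Z S : Scheme.{u}} (g : Z ⟶ S) (s : S) (z₀ : g.fiber s) (z : Z) (hz : g.fiberι s z₀ = z) :
    ∃ π : Z.presheaf.stalk z →+* (g.fiber s).presheaf.stalk z₀, Function.Surjective π ∧
      RingHom.ker π = Ideal.map (g.stalkMap z).hom (maximalIdeal (S.presheaf.stalk (g z))) := by
  subst hz
  exact ⟨_, Groth.L18.stalkMap_fiberι g s z₀⟩

/-- The image of a generic point of the closed fibre of a nodal family. -/
theorem local_facts [LocallyOfFiniteType p'] [LocallyOfFiniteType (b ≫ p')] (hp : Curv2.IsNodalFamily (b ≫ p'))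
    (ξ : X) (hξ : ¬ IsClosed ({ξ} : Set X)) (hy : IsClosed ({b ξ} : Set X'))
    (hs : p' (b ξ) = IsLocalRing.closedPoint R)
    (hreg : IsRegularLocalRing (X'.presheaf.stalk (b ξ))) (hdim : ringKrullDim (X'.presheaf.stalk (b ξ)) = 2)
    (y₀ : p'.fiber (p' (b ξ))) (hy₀ : p'.fiberι _ y₀ = b ξ) :
    letI : (p'.fiber (p' (b ξ))).Over (Spec (CommRingCat.of ((Spec (CommRingCat.of R)).residueField (p' (b ξ))))) :=
      ⟨p'.fiberToSpecResidueField _⟩
    letI := Curv2.resAlgebra ((Spec (CommRingCat.of R)).residueField (p' (b ξ))) (p'.fiber (p' (b ξ))) y₀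
    (p'.stalkMap (b ξ)).hom.Flat ∧ IsRegularLocalRing ((p'.fiber (p' (b ξ))).presheaf.stalk y₀) ∧
      ringKrullDim ((p'.fiber (p' (b ξ))).presheaf.stalk y₀) = 1 ∧
      Algebra.IsSeparable ((Spec (CommRingCat.of R)).residueField (p' (b ξ)))
        ((p'.fiber (p' (b ξ))).residueField y₀) := by
  let K : Type u := (Spec (CommRingCat.of R)).residueField (p' (b ξ))
  obtain ⟨hflatp, hlfp, hfib⟩ := hp
  haveI := hflatp
  obtain ⟨hd, hn⟩ := hfib (p' (b ξ))
  letI : ((b ≫ p').fiber (p' (b ξ))).Over (Spec (CommRingCat.of K)) := ⟨(b ≫ p').fiberToSpecResidueField (p' (b ξ))⟩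
  letI : (p'.fiber (p' (b ξ))).Over (Spec (CommRingCat.of K)) := ⟨p'.fiberToSpecResidueField (p' (b ξ))⟩
  haveI : LocallyOfFiniteType ((b ≫ p').fiber (p' (b ξ)) ↘ Spec (CommRingCat.of K)) :=
    MorphismProperty.pullback_snd _ _ inferInstance
  haveI : LocallyOfFiniteType (p'.fiber (p' (b ξ)) ↘ Spec (CommRingCat.of K)) :=
    MorphismProperty.pullback_snd _ _ inferInstance
  haveI : IsLocallyNoetherian X := LocallyOfFiniteType.isLocallyNoetherian (b ≫ p')
  obtain ⟨φ', hpb, hφ⟩ := exists_fiberMap p' b (p' (b ξ))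
  -- the point in the fibre
  have hξs : ξ ∈ (b ≫ p') ⁻¹' {p' (b ξ)} := rfl
  obtain ⟨ξ₀, hξ₀⟩ : ξ ∈ Set.range ((b ≫ p').fiberι (p' (b ξ))) := by rw [Scheme.Hom.range_fiberι]; exact hξs
  have hmap : φ' ξ₀ = y₀ := (p'.fiberι (p' (b ξ))).isEmbedding.injective (by
    rw [← Scheme.Hom.comp_apply, hpb.w, Scheme.Hom.comp_apply, hξ₀, hy₀])
  have hcl : CurveLike ((b ≫ p').fiber (p' (b ξ))) := (curveLike_iff _).2 hd
  obtain ⟨w, hξw, hwne⟩ : ∃ w, ξ ⤳ w ∧ w ≠ ξ := by
    by_contra h
    push Not at h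
    refine hξ (isClosed_of_closure_subset fun w hw => h w (specializes_iff_mem_closure.2 hw))
  obtain ⟨w₀, hw₀⟩ : w ∈ Set.range ((b ≫ p').fiberι (p' (b ξ))) := by
    rw [Scheme.Hom.range_fiberι]
    have h1 : (b ≫ p') ξ ⤳ (b ≫ p') w := hξw.map (b ≫ p').continuous
    exact h1.mem_closed (hs.symm ▸ IsLocalRing.isClosed_singleton_closedPoint R) hξs
  have hmax : ∀ t, t ⤳ ξ₀ → t = ξ₀ := fun t ht =>
    (hcl.1 t ξ₀ w₀ ht (((b ≫ p').fiberι _).isEmbedding.isInducing.specializes_iff.1 (by rw [hξ₀, hw₀]; exact hξw))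
      ).resolve_right fun e => hwne (hw₀.symm.trans ((congrArg _ e.symm).trans hξ₀))
  have hξc : ¬ IsClosed ({ξ₀} : Set ((b ≫ p').fiber (p' (b ξ)))) := fun h => by
    obtain ⟨t, hne, ht⟩ := hcl.2 _ h
    exact hne (hmax t ht)
  haveI := (isGorensteinLocalRing_and_isReduced_stalk (k := K) hcl hn ξ₀).2
  have hK : IsField (((b ≫ p').fiber (p' (b ξ))).presheaf.stalk ξ₀) := isField_stalk_of_maximal ξ₀ hmax
  -- separability
  have hy₀c : IsClosed ({y₀} : Set (p'.fiber (p' (b ξ)))) := by
    have := hy.preimage (p'.fiberι (p' (b ξ))).continuous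
    convert this using 1
    ext v
    rw [Set.mem_singleton_iff, Set.mem_preimage, Set.mem_singleton_iff]
    exact ⟨fun h => h ▸ hy₀, fun h => (p'.fiberι _).isEmbedding.injective (h.trans hy₀.symm)⟩
  subst hmap
  have hsep := isSeparable_residueField (k := K) φ' hφ ξ₀ hK hy₀c
    (exists_smooth_nhd_of_not_isClosed (k := K) hcl hn ξ₀ hξc)
  -- the uniformiser
  obtain ⟨_, _, t, ht⟩ := exists_uniformizer_stalk (R := R) (p' (b ξ)) hs
  have hmt := ht.maximalIdeal_eq
  obtain ⟨πX, hsurjX, hkerX⟩ := exists_stalk_quotient (b ≫ p') _ ξ₀ ξ hξ₀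
  obtain ⟨πY, hsurjY, hkerY⟩ := exists_stalk_quotient p' _ (φ' ξ₀) (b ξ) hy₀
  let A := X'.presheaf.stalk (b ξ)
  let ty : A := (p'.stalkMap (b ξ)).hom t
  let B := X.presheaf.stalk ξ
  let tx : B := (b.stalkMap ξ).hom ty
  have hcompst : ((b ≫ p').stalkMap ξ).hom t = tx := by
    rw [Scheme.Hom.stalkMap_comp]
    rfl
  have hkY : RingHom.ker πY = Ideal.span {ty} := by
    rw [hkerY, hmt, Ideal.map_span, Set.image_singleton]
  have hmB : maximalIdeal B = Ideal.span {tx} := by
    haveI : (RingHom.ker πX).IsMaximal := by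
      letI := hK.toField
      exact RingHom.ker_isMaximal_of_surjective _ hsurjX
    rw [← IsLocalRing.eq_maximalIdeal (inferInstance : (RingHom.ker πX).IsMaximal), hkerX]
    erw [hmt, Ideal.map_span, Set.image_singleton, hcompst]
  have htx : tx ≠ 0 := by
    rw [← hcompst]
    intro h0
    letI := ((b ≫ p').stalkMap ξ).hom.toAlgebra
    haveI : Module.Flat ((Spec (CommRingCat.of R)).presheaf.stalk ((b ≫ p') ξ)) (X.presheaf.stalk ξ) :=
      Flat.stalkMap (b ≫ p') ξ
    haveI : IsLocalHom (algebraMap ((Spec (CommRingCat.of R)).presheaf.stalk ((b ≫ p') ξ)) (X.presheaf.stalk ξ)) :=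
      inferInstanceAs (IsLocalHom ((b ≫ p').stalkMap ξ).hom)
    haveI : Module.FaithfullyFlat ((Spec (CommRingCat.of R)).presheaf.stalk ((b ≫ p') ξ)) (X.presheaf.stalk ξ) :=
      Module.FaithfullyFlat.of_flat_of_isLocalHom
    have hinj : Function.Injective ((b ≫ p').stalkMap ξ).hom :=
      FaithfulSMul.algebraMap_injective ((Spec (CommRingCat.of R)).presheaf.stalk ((b ≫ p') ξ)) (X.presheaf.stalk ξ)
    exact ht.ne_zero (hinj (h0.trans (map_zero _).symm))
  have hty : ty ∈ maximalIdeal A := fun hu =>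
    ht.not_isUnit (isUnit_of_map_unit (p'.stalkMap (b ξ)).hom t hu)
  have hty2 : ty ∉ maximalIdeal A ^ 2 := notMem_sq (b.stalkMap ξ).hom ty htx hmB
  haveI := hreg
  obtain ⟨hqreg, hqdim⟩ := Groth.L01.regular_quotient_of_notMem_sq hty hty2
  haveI := Groth.L01.isDomain_of_regular A
  let e : A ⧸ Ideal.span {ty} ≃+* (p'.fiber (p' (b ξ))).presheaf.stalk (φ' ξ₀) :=
    (Ideal.quotEquivOfEq hkY.symm).trans (RingHom.quotientKerEquivOfSurjective hsurjY)
  haveI : IsLocalRing (A ⧸ Ideal.span {ty}) := e.symm.isLocalRing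
  refine ⟨flat_of_ne_zero _ t ht fun h => htx (by show (b.stalkMap ξ).hom _ = 0; rw [show ty = 0 from h, map_zero]),
    IsRegularLocalRing.of_ringEquiv e, ?_, hsep⟩
  rw [← ringKrullDim_eq_of_ringEquiv e]
  rw [hdim] at hqdim
  have h2 : (2 : WithBot ℕ∞) = 1 + 1 := by norm_num
  rw [h2] at hqdim
  generalize ringKrullDim (A ⧸ Ideal.span {ty}) = d at hqdim ⊢
  induction d with
  | bot =>
    rw [WithBot.bot_add] at hqdim
    exact absurd hqdim.symm (by rw [← h2]; simp)
  | coe d =>
    rw [← WithBot.coe_one, ← WithBot.coe_add, ← WithBot.coe_add, WithBot.coe_inj] at hqdim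
    rw [← WithBot.coe_one, WithBot.coe_inj]
    exact WithTop.add_right_cancel ENat.one_ne_top hqdim

end Stalk

end Groth.L05.NodalContr
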