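import Groth.Agent.L05.NodalContr.Local
import Groth.Agent.L16.ProjSpace.Dim
import Groth.Agent.L16.ProjSpace.Basic
import Groth.Agent.S1682
import Groth.Prelude.Def_ModelsG

/-! Contracting an exceptional curve keeps a nodal family nodal. -/

set_option autoImplicit false
set_option linter.style.haveILetI false
set_option backward.isDefEq.respectTransparency.types false
set_option backward.isDefEq.respectTransparency false
set_option maxHeartbeats 1000000

universe u

open CategoryTheory CategoryTheory.Limits AlgebraicGeometry TopologicalSpace IsLocalRing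

noncomputable section

namespace Groth.L05.NodalContr

open Groth.L21.Nodal

theorem exists_nonclosed {E Y : Scheme.{u}} (ι : E ⟶ Y) [IsClosedImmersion ι] (hE : Models.IsExcCurve ι) :
    ∃ ε : E, ¬ IsClosed ({ι ε} : Set Y) := by
  obtain ⟨-, k, _, e, -⟩ := hE
  let η := genericPoint (CohB1.ProjSpace 1 k)
  refine ⟨e.hom η, fun hc => ?_⟩
  have hηc : IsClosed ({η} : Set (CohB1.ProjSpace 1 k)) := by
    have := hc.preimage (e.hom ≫ ι).continuous
    convert this using 1
    ext v
    rw [Set.mem_singleton_iff, Set.mem_preimage, Set.mem_singleton_iff, Scheme.Hom.comp_apply]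
    exact ⟨fun h => by rw [h], fun h => e.hom.homeomorph.injective (ι.isEmbedding.injective h)⟩
  have huniv : (Set.univ : Set (CohB1.ProjSpace 1 k)) = {η} := by
    rw [← (genericPoint_spec (CohB1.ProjSpace 1 k)).def, hηc.closure_eq]
  haveI : Subsingleton (CohB1.ProjSpace 1 k) := ⟨fun a b => by
    have ha := Set.mem_univ a; have hb := Set.mem_univ b
    rw [huniv] at ha hb
    exact ha.trans hb.symm⟩
  haveI : Nonempty (CohB1.ProjSpace 1 k) := ⟨η⟩
  have h1 := Groth.L16.ProjSpace.topologicalKrullDim_eq_of_field 1 k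
  rw [Groth.L19.topologicalKrullDim_eq_krullDim] at h1
  let _ := specializationOrder (CohB1.ProjSpace 1 k)
  rw [Order.krullDim_eq_zero] at h1
  exact one_ne_zero (α := WithBot ℕ∞) (by simpa using h1.symm)

variable {R : Type u} [CommRing R] [IsDomain R] [IsDiscreteValuationRing R] {X X' : Scheme.{u}}
  (b : X ⟶ X') (p' : X' ⟶ Spec (CommRingCat.of R))

theorem isNodalFamily_of_contraction [LocallyOfFiniteType p'] [IsNoetherian X'] [IsProper b]
    (hp : Curv2.IsNodalFamily (b ≫ p')) (ξ : X) (hξ : ¬ IsClosed ({ξ} : Set X)) (hy : IsClosed ({b ξ} : Set X'))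
    (hreg : IsRegularLocalRing (X'.presheaf.stalk (b ξ))) (hdim : ringKrullDim (X'.presheaf.stalk (b ξ)) = 2)
    (V : X'.Opens) (hV : ∀ z, z ∈ V ↔ z ≠ b ξ) (hiso : IsIso (b ∣_ V)) : Curv2.IsNodalFamily p' := by
  haveI := hp.2.1
  haveI : LocallyOfFiniteType (b ≫ p') := inferInstance
  -- away from the point
  have hV' : Curv2.IsNodalFamily (V.ι ≫ p') := by
    have h1 := comp_etale (b ≫ p') (b ⁻¹ᵁ V).ι hp
    have h2 := comp_etale ((b ⁻¹ᵁ V).ι ≫ b ≫ p') (inv (b ∣_ V)) h1
    rwa [← morphismRestrict_ι_assoc, IsIso.inv_hom_id_assoc] at h2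
  -- the point lies in the closed fibre
  have hs : p' (b ξ) = IsLocalRing.closedPoint R := by
    by_contra hne
    have hgen : ∀ t : Spec (CommRingCat.of R), t ⤳ p' (b ξ) → t = p' (b ξ) := fun t ht => by
      let t' : PrimeSpectrum R := t
      let s' : PrimeSpectrum R := p' (b ξ)
      have hle : t'.asIdeal ≤ s'.asIdeal := (PrimeSpectrum.le_iff_specializes t' s').2 ht
      have hs0 : s'.asIdeal = ⊥ := by
        by_contra h0
        exact hne (PrimeSpectrum.ext (IsLocalRing.eq_maximalIdeal (s'.2.isMaximal h0)))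
      exact PrimeSpectrum.ext (le_antisymm hle (hs0.trans_le bot_le))
    obtain ⟨a, c, hac, hcy, hne1, hne2⟩ : ∃ a c : X', a ⤳ c ∧ c ⤳ b ξ ∧ a ≠ c ∧ c ≠ b ξ := by
      by_contra h
      push Not at h
      have h1 := (Groth.L18.CurveDim.dim_stalk_le_one_iff (b ξ)).2 fun a c hac hcy => by
        by_contra h2
        push Not at h2
        exact h2.2 (h a c hac hcy h2.1)
      rw [hdim] at h1
      exact absurd h1 (by norm_num)
    have hane : a ≠ b ξ := fun e => hne2 ((hcy.antisymm (e ▸ hac)).eq)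
    obtain ⟨cV, hcV⟩ := (b ∣_ V).surjective ⟨c, (hV c).2 hne2⟩
    obtain ⟨aV, haV⟩ := (b ∣_ V).surjective ⟨a, (hV a).2 hane⟩
    let c' : X := (b ⁻¹ᵁ V).ι cV
    let a' : X := (b ⁻¹ᵁ V).ι aV
    have hbc : b c' = c := by
      show (((b ⁻¹ᵁ V).ι ≫ b) cV) = c
      rw [← morphismRestrict_ι, Scheme.Hom.comp_apply, hcV]; rfl
    have hba : b a' = a := by
      show (((b ⁻¹ᵁ V).ι ≫ b) aV) = a
      rw [← morphismRestrict_ι, Scheme.Hom.comp_apply, haV]; rfl
    have hac' : a' ⤳ c' := by
      refine (((b ∣_ V).isEmbedding.isInducing.specializes_iff).1 ?_).map (b ⁻¹ᵁ V).ι.continuous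
      rw [haV, hcV]
      exact V.ι.isEmbedding.isInducing.specializes_iff.1 hac
    obtain ⟨y', hy', hby'⟩ : ∃ y', c' ⤳ y' ∧ b y' = b ξ := by
      have hcl := b.isClosedMap _ (isClosed_closure (s := ({c'} : Set X)))
      have hmem : b ξ ∈ b '' closure {c'} := hcy.mem_closed hcl ⟨c', subset_closure rfl, hbc⟩
      obtain ⟨y', h1, h2⟩ := hmem
      exact ⟨y', specializes_iff_mem_closure.2 h1, h2⟩
    have hfy : (b ≫ p') y' = p' (b ξ) := by rw [Scheme.Hom.comp_apply, hby']
    have hfc : (b ≫ p') c' = p' (b ξ) := hgen _ (hfy ▸ hy'.map (b ≫ p').continuous)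
    have hfa : (b ≫ p') a' = p' (b ξ) := hgen _ (hfc ▸ hac'.map (b ≫ p').continuous)
    set s := p' (b ξ)
    obtain ⟨a₀, ha₀⟩ : a' ∈ Set.range ((b ≫ p').fiberι s) := by rw [Scheme.Hom.range_fiberι]; exact hfa
    obtain ⟨c₀, hc₀⟩ : c' ∈ Set.range ((b ≫ p').fiberι s) := by rw [Scheme.Hom.range_fiberι]; exact hfc
    obtain ⟨y₀, hy₀⟩ : y' ∈ Set.range ((b ≫ p').fiberι s) := by rw [Scheme.Hom.range_fiberι]; exact hfy
    have hcl2 := ((curveLike_iff _).2 (hp.2.2 s).1).1 a₀ c₀ y₀
      (((b ≫ p').fiberι s).isEmbedding.isInducing.specializes_iff.1 (by rw [ha₀, hc₀]; exact hac'))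
      (((b ≫ p').fiberι s).isEmbedding.isInducing.specializes_iff.1 (by rw [hc₀, hy₀]; exact hy'))
    rcases hcl2 with e | e
    · exact hne1 (by rw [← hba, ← hbc, ← ha₀, ← hc₀, e])
    · exact hne2 (by rw [← hbc, ← hby', ← hc₀, ← hy₀, e])
  haveI : Flat p' := by
    refine Flat.of_stalkMap p' fun z => ?_
    by_cases hz : z = b ξ
    · subst hz
      obtain ⟨y₀, hy₀⟩ : b ξ ∈ Set.range (p'.fiberι (p' (b ξ))) := by rw [Scheme.Hom.range_fiberι]; rfl
      exact (local_facts b p' hp ξ hξ hy hs hreg hdim y₀ hy₀).1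
    · haveI := hV'.1
      have h := Flat.stalkMap (V.ι ≫ p') ⟨z, (hV z).2 hz⟩
      rw [Scheme.Hom.stalkMap_comp, CommRingCat.hom_comp] at h
      exact (RingHom.Flat.respectsIso.cancel_right_isIso _ _).1 h
  refine ⟨inferInstance, inferInstance, fun s => ?_⟩
  obtain ⟨φ, hpb, hφ⟩ := exists_fiberMap p' V.ι s
  haveI : IsOpenImmersion φ := MorphismProperty.of_isPullback hpb.flip inferInstance
  letI : (p'.fiber s).Over (Spec (CommRingCat.of ((Spec (CommRingCat.of R)).residueField s))) :=
    ⟨p'.fiberToSpecResidueField s⟩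
  letI : ((V.ι ≫ p').fiber s).Over (Spec (CommRingCat.of ((Spec (CommRingCat.of R)).residueField s))) :=
    ⟨(V.ι ≫ p').fiberToSpecResidueField s⟩
  haveI : LocallyOfFiniteType (p'.fiber s ↘ Spec (CommRingCat.of ((Spec (CommRingCat.of R)).residueField s))) :=
    MorphismProperty.pullback_snd _ _ inferInstance
  haveI := hV'.2.1
  haveI : LocallyOfFiniteType ((V.ι ≫ p').fiber s ↘ Spec (CommRingCat.of ((Spec (CommRingCat.of R)).residueField s))) :=
    MorphismProperty.pullback_snd _ _ inferInstance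
  haveI : JacobsonSpace ((V.ι ≫ p').fiber s) :=
    LocallyOfFiniteType.jacobsonSpace ((V.ι ≫ p').fiber s ↘ Spec (CommRingCat.of ((Spec (CommRingCat.of R)).residueField s)))
  have hclV : CurveLike ((V.ι ≫ p').fiber s) := (curveLike_iff _).2 (hV'.2.2 s).1
  have hrange : ∀ v : p'.fiber s, p'.fiberι s v ≠ b ξ → v ∈ Set.range φ := fun v hv => by
    obtain ⟨q, hq, -⟩ := Scheme.exists_preimage_of_isPullback hpb v ⟨_, (hV _).2 hv⟩ rfl
    exact ⟨q, hq⟩
  have hdim1 : ∀ v : p'.fiber s, p'.fiberι s v = b ξ → IsClosed ({v} : Set (p'.fiber s)) ∧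
      ringKrullDim ((p'.fiber s).presheaf.stalk v) = 1 ∧
        ∃ U : (p'.fiber s).Opens, v ∈ U ∧ Smooth (U.ι ≫ p'.fiberToSpecResidueField s) := by
    intro v hv
    have hps : p' (b ξ) = s := by
      have : p'.fiberι s v ∈ Set.range (p'.fiberι s) := ⟨v, rfl⟩
      rw [Scheme.Hom.range_fiberι, hv] at this
      exact this
    subst hps
    have hvc : IsClosed ({v} : Set (p'.fiber (p' (b ξ)))) := by
      have := hy.preimage (p'.fiberι (p' (b ξ))).continuous
      convert this using 1
      ext w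
      rw [Set.mem_singleton_iff, Set.mem_preimage, Set.mem_singleton_iff]
      exact ⟨fun h => h ▸ hv, fun h => (p'.fiberι _).isEmbedding.injective (h.trans hv.symm)⟩
    obtain ⟨-, hr, hd, hsep⟩ := local_facts b p' hp ξ hξ hy hs hreg hdim v hv
    haveI := hr
    haveI : LocallyOfFinitePresentation (p'.fiber (p' (b ξ)) ↘
        Spec (CommRingCat.of ((Spec (CommRingCat.of R)).residueField (p' (b ξ))))) := by
      haveI : IsLocallyNoetherian (Spec (CommRingCat.of ((Spec (CommRingCat.of R)).residueField (p' (b ξ))))) := inferInstance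
      exact LocallyOfFinitePresentation.iff_locallyOfFiniteType.mpr inferInstance
    have hm := mem_smoothLocus_of_regular (k := (Spec (CommRingCat.of R)).residueField (p' (b ξ))) v hvc hsep
    haveI : LocallyOfFinitePresentation (p'.fiberToSpecResidueField (p' (b ξ))) :=
      ‹LocallyOfFinitePresentation (p'.fiber (p' (b ξ)) ↘ _)›
    exact ⟨hvc, hd, (Groth.L19.SmoothLocus.mem_iff_nhd _ v).1 hm⟩
  refine ⟨(curveLike_iff _).1 ⟨fun a c d hac hcd => ?_, fun v hvc => ?_⟩, fun v hvc => ?_⟩
  · by_cases hd : p'.fiberι s d = b ξ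
    · exact (Groth.L18.CurveDim.dim_stalk_le_one_iff d).1 (hdim1 d hd).2.1.le a c hac hcd
    · obtain ⟨d', rfl⟩ := hrange d hd
      obtain ⟨c', rfl⟩ := hcd.mem_open φ.isOpenEmbedding.isOpen_range (Set.mem_range_self d')
      obtain ⟨a', rfl⟩ := hac.mem_open φ.isOpenEmbedding.isOpen_range (Set.mem_range_self c')
      rcases hclV.1 a' c' d' (φ.isEmbedding.isInducing.specializes_iff.1 hac)
          (φ.isEmbedding.isInducing.specializes_iff.1 hcd) with e | e
      · exact Or.inl (congrArg φ e)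
      · exact Or.inr (congrArg φ e)
  · by_cases hv : p'.fiberι s v = b ξ
    · by_contra hcon
      push Not at hcon
      have h0 : ringKrullDim ((p'.fiber s).presheaf.stalk v) ≤ 0 := by
        haveI : Subsingleton (PrimeSpectrum ((p'.fiber s).presheaf.stalk v)) := ⟨fun P Q => by
          have key : ∀ P : PrimeSpectrum ((p'.fiber s).presheaf.stalk v), (p'.fiber s).fromSpecStalk v P = v := fun P => by
            by_contra hP
            have : (p'.fiber s).fromSpecStalk v P ∈ Set.range ((p'.fiber s).fromSpecStalk v) := ⟨P, rfl⟩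
            rw [Scheme.range_fromSpecStalk] at this
            exact hcon _ hP this
          exact ((p'.fiber s).fromSpecStalk v).isEmbedding.injective ((key P).trans (key Q).symm)⟩
        exact Order.krullDim_nonpos_of_subsingleton
      rw [(hdim1 v hv).2.1] at h0
      exact absurd h0 (by norm_num)
    · obtain ⟨v', rfl⟩ := hrange v hv
      obtain ⟨w, hw, hwv⟩ := hclV.2 v' (isClosed_singleton_of_image φ v' hvc)
      exact ⟨φ w, fun e => hw (φ.isEmbedding.injective e), hwv.map φ.continuous⟩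
  · by_cases hv : p'.fiberι s v = b ξ
    · exact Or.inl (hdim1 v hv).2.2
    · obtain ⟨v', rfl⟩ := hrange v hv
      rcases (hV'.2.2 s).2 v' (isClosed_singleton_of_image φ v' hvc) with ⟨U, hvU, hU⟩ | hn
      · obtain ⟨O, l, hO, hle, hls, hl⟩ := exists_etale_surjective_image φ U
        refine Or.inl ⟨O, ?_, ?_⟩
        · show φ v' ∈ (O : Set _)
          rw [hO]
          exact ⟨v', hvU, rfl⟩
        · apply Groth.L23.smooth_of_etale_comp' l
          rw [← Category.assoc, hl, Category.assoc]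
          show Smooth (U.ι ≫ φ ≫ p'.fiberToSpecResidueField s)
          rw [hφ]
          exact hU
      · exact Or.inr (isNode_image_of_etale (k := (Spec (CommRingCat.of R)).residueField s) φ hφ v' hn)

end Groth.L05.NodalContr
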